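import Mathlib
import Cfsg.Agent.Lib.Helper95.Fix2.Defs

/-!
# FIX2 (S3390), package [FROB]

The point stabilizer is a Frobenius complement in the normal subgroup `N` of index 2.
-/

set_option autoImplicit false

namespace Cfsg.Agent.Lib.Helper47.Fix2

open Cfsg.Agent.Lib.Helper95.Fix2

universe u v

section

variable {G : Type u} [Group G] {Ω : Type v} [MulAction G Ω]

/-- If `g` fixes `a` then every power of `g` fixes `a`. -/
theorem pow_smul_fixed {g : G} {a : Ω} (h : g • a = a) (k : ℕ) : (g ^ k) • a = a := by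
  have h1 : g ^ k ∈ MulAction.stabilizer G a :=
    Subgroup.pow_mem _ (MulAction.mem_stabilizer_iff.2 h) k
  exact MulAction.mem_stabilizer_iff.1 h1

/-- If `g` fixes `a` then every element of `⟨g⟩` fixes `a`. -/
theorem mem_zpowers_smul_fixed {g p : G} {a : Ω} (h : g • a = a)
    (hp : p ∈ Subgroup.zpowers g) : p • a = a := by
  have h1 : Subgroup.zpowers g ≤ MulAction.stabilizer G a := by
    rw [Subgroup.zpowers_le]
    exact MulAction.mem_stabilizer_iff.2 h
  exact MulAction.mem_stabilizer_iff.1 (h1 hp)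

/-- The core of [FROB]: a non-identity element cannot fix `α` and `n • α ≠ α` with `n ∈ N`. -/
theorem frob_core [Finite G] [Finite Ω] (S : Sylow 2 G) (N : Subgroup G) (α β : Ω) (t : G)
    (htr : MulAction.IsPretransitive G Ω) (hF : Fix2On Ω (⊤ : Subgroup G))
    (hidx : N.index = 2) (hfix : ∀ g : G, (∃ ω : Ω, g • ω = ω) → g ∈ N) (htN : t ∉ N)
    (htα : t • α = β)
    (hS : ∀ x ∈ (S : Subgroup G), x ≠ 1 → (∃ ω : Ω, x • ω = ω) → x • α = α ∧ x • β = β)
    (y n : G) (hn : n ∈ N) (hy1 : y ≠ 1) (hyα : y • α = α) (hyα' : y • (n • α) = n • α)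
    (hnα : n • α ≠ α) : False := by
  classical
  have hβα : β ≠ α := by
    intro h
    exact htN (hfix t ⟨α, by rw [htα, h]⟩)
  have hord1 : orderOf y ≠ 1 := by
    rw [Ne, orderOf_eq_one_iff]
    exact hy1
  have hord0 : orderOf y ≠ 0 := (orderOf_pos y).ne'
  obtain ⟨q, hq⟩ : ∃ q, q = (orderOf y).minFac := ⟨_, rfl⟩
  have hqp : q.Prime := hq ▸ Nat.minFac_prime hord1
  have hqd : q ∣ orderOf y := hq ▸ Nat.minFac_dvd _
  obtain ⟨g0, hg0⟩ : ∃ g0, g0 = y ^ (orderOf y / q) := ⟨_, rfl⟩
  have hg0ord : orderOf g0 = q := hg0 ▸ orderOf_pow_orderOf_div hord0 hqd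
  have hg01 : g0 ≠ 1 := by
    intro h
    rw [h, orderOf_one] at hg0ord
    exact hqp.one_lt.ne hg0ord
  have hg0α : g0 • α = α := hg0 ▸ pow_smul_fixed hyα _
  have hg0α' : g0 • (n • α) = n • α := hg0 ▸ pow_smul_fixed hyα' _
  by_cases hq2 : q = 2
  · -- `q = 2`: Sylow
    have : Fact (Nat.Prime 2) := ⟨Nat.prime_two⟩
    have hP : IsPGroup 2 ↥(Subgroup.zpowers g0) := by
      apply IsPGroup.of_card (n := 1)
      rw [Nat.card_zpowers, hg0ord, hq2, pow_one]
    obtain ⟨Q, hQ⟩ := hP.exists_le_sylow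
    obtain ⟨h, rfl⟩ := MulAction.exists_smul_eq G S Q
    have hmem : g0 ∈ ((h • S : Sylow 2 G) : Subgroup G) := hQ (Subgroup.mem_zpowers g0)
    rw [Sylow.coe_subgroup_smul, Subgroup.mem_pointwise_smul_iff_inv_smul_mem] at hmem
    have hmem' : h⁻¹ * g0 * h ∈ (S : Subgroup G) := by
      simpa [MulAut.smul_def] using hmem
    obtain ⟨y', hy'⟩ : ∃ y', y' = h⁻¹ * g0 * h := ⟨_, rfl⟩
    rw [← hy'] at hmem'
    have hy'1 : y' ≠ 1 := by
      intro h'
      apply hg01
      have h3 : g0 = h * y' * h⁻¹ := by rw [hy']; group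
      rw [h3, h']; group
    have hy'a : y' • (h⁻¹ • α) = h⁻¹ • α := by
      rw [hy', mul_smul, mul_smul, smul_inv_smul, hg0α]
    have hy'b : y' • (h⁻¹ • (n • α)) = h⁻¹ • (n • α) := by
      rw [hy', mul_smul, mul_smul, smul_inv_smul, hg0α']
    obtain ⟨hy'α, hy'β⟩ := hS y' hmem' hy'1 ⟨_, hy'a⟩
    have hne : h⁻¹ • α ≠ h⁻¹ • (n • α) := by
      intro h'
      exact hnα (smul_left_cancel _ h').symm
    have h1 := hF y' (Subgroup.mem_top _) hy'1 α β (h⁻¹ • α) hy'α hy'β hy'a
    have h2 := hF y' (Subgroup.mem_top _) hy'1 α β (h⁻¹ • (n • α)) hy'α hy'β hy'b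
    rcases h1 with h1 | h1 | h1
    · exact hβα h1.symm
    · rcases h2 with h2 | h2 | h2
      · exact hβα h2.symm
      · exact hne (h1.symm.trans h2)
      · have ha1 : h • α = α := eq_inv_smul_iff.1 h1
        have ha2 : h • β = n • α := eq_inv_smul_iff.1 h2
        have hhN : h ∈ N := hfix h ⟨α, ha1⟩
        have h3 : ((h * t)⁻¹ * n) • α = α := by
          rw [mul_smul, inv_smul_eq_iff, mul_smul, htα]
          exact ha2.symm
        have h4 : (h * t)⁻¹ * n ∈ N := hfix _ ⟨α, h3⟩
        have h5 : (h * t)⁻¹ ∈ N := by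
          have h6 := N.mul_mem h4 (N.inv_mem hn)
          rwa [mul_assoc, mul_inv_cancel, mul_one] at h6
        have h6 : h * t ∈ N := by
          have h7 := N.inv_mem h5
          rwa [inv_inv] at h7
        apply htN
        have h7 := N.mul_mem (N.inv_mem hhN) h6
        rwa [inv_mul_cancel_left] at h7
    · rcases h2 with h2 | h2 | h2
      · exact hβα h2.symm
      · have hb1 : h • β = α := eq_inv_smul_iff.1 h1
        have hb2 : h • α = n • α := eq_inv_smul_iff.1 h2
        have h3 : (n⁻¹ * h) • α = α := by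
          rw [mul_smul, inv_smul_eq_iff]
          exact hb2
        have h4 : n⁻¹ * h ∈ N := hfix _ ⟨α, h3⟩
        have hhN : h ∈ N := by
          have h5 := N.mul_mem hn h4
          rwa [mul_inv_cancel_left] at h5
        have h5 : (h * t) • α = α := by
          rw [mul_smul, htα]
          exact hb1
        have h6 : h * t ∈ N := hfix _ ⟨α, h5⟩
        apply htN
        have h7 := N.mul_mem (N.inv_mem hhN) h6
        rwa [inv_mul_cancel_left] at h7
      · exact hne (h1.symm.trans h2)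
  · -- `q` odd: counting modulo `q`
    have : Fact q.Prime := ⟨hqp⟩
    have hg0N : g0 ∈ N := hfix g0 ⟨α, hg0α⟩
    have hP : IsPGroup q ↥(Subgroup.zpowers (⟨g0, hg0N⟩ : ↥N)) := by
      apply IsPGroup.of_card (n := 1)
      rw [Nat.card_zpowers, pow_one, ← hg0ord]
      exact Subgroup.orderOf_mk g0 hg0N
    have hfp : ∀ p ∈ Subgroup.zpowers (⟨g0, hg0N⟩ : ↥N), ∀ a : Ω, g0 • a = a →
        ((p : ↥N) : G) • a = a := by
      intro p hp a ha
      obtain ⟨k, rfl⟩ := Subgroup.mem_zpowers_iff.1 hp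
      have h1 : (((⟨g0, hg0N⟩ : ↥N) ^ k : ↥N) : G) = g0 ^ k := by
        rw [Subgroup.coe_zpow]
      rw [h1]
      exact mem_zpowers_smul_fixed ha (Subgroup.zpow_mem_zpowers g0 k)
    have hc1 : Nat.card Ω ≡ 2 [MOD q] := by
      have h1 := hP.card_modEq_card_fixedPoints Ω
      have h2 : (MulAction.fixedPoints ↥(Subgroup.zpowers (⟨g0, hg0N⟩ : ↥N)) Ω) = {α, n • α} := by
        ext a
        simp only [MulAction.mem_fixedPoints, Set.mem_insert_iff, Set.mem_singleton_iff]
        constructor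
        · intro h
          have ha : g0 • a = a := h ⟨⟨g0, hg0N⟩, Subgroup.mem_zpowers _⟩
          rcases hF g0 (Subgroup.mem_top _) hg01 α (n • α) a hg0α hg0α' ha with h3 | h3 | h3
          · exact absurd h3.symm hnα
          · left; exact h3.symm
          · right; exact h3.symm
        · rintro (rfl | rfl) p
          · exact hfp p.1 p.2 _ hg0α
          · exact hfp p.1 p.2 _ hg0α'
      have h3 : Nat.card ↥(MulAction.fixedPoints ↥(Subgroup.zpowers (⟨g0, hg0N⟩ : ↥N)) Ω)
          = 2 := by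
        rw [h2, Nat.card_coe_set_eq, Set.ncard_pair (Ne.symm hnα)]
      rw [h3] at h1
      exact h1
    have hαO : α ∈ MulAction.orbit ↥N α := MulAction.mem_orbit_self α
    have hα'O : n • α ∈ MulAction.orbit ↥N α := ⟨⟨n, hn⟩, rfl⟩
    have hc2 : Nat.card ↥(MulAction.orbit ↥N α) ≡ 2 [MOD q] := by
      have h1 := hP.card_modEq_card_fixedPoints ↥(MulAction.orbit ↥N α)
      have h2 : (MulAction.fixedPoints ↥(Subgroup.zpowers (⟨g0, hg0N⟩ : ↥N))
          ↥(MulAction.orbit ↥N α)) = {⟨α, hαO⟩, ⟨n • α, hα'O⟩} := by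
        ext a
        simp only [MulAction.mem_fixedPoints, Set.mem_insert_iff, Set.mem_singleton_iff]
        constructor
        · intro h
          have ha : g0 • (a : Ω) = a :=
            congrArg Subtype.val (h ⟨⟨g0, hg0N⟩, Subgroup.mem_zpowers _⟩)
          rcases hF g0 (Subgroup.mem_top _) hg01 α (n • α) a hg0α hg0α' ha with h3 | h3 | h3
          · exact absurd h3.symm hnα
          · left; exact Subtype.ext h3.symm
          · right; exact Subtype.ext h3.symm
        · rintro (rfl | rfl) p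
          · exact Subtype.ext (hfp p.1 p.2 _ hg0α)
          · exact Subtype.ext (hfp p.1 p.2 _ hg0α')
      have hne' : (⟨α, hαO⟩ : ↥(MulAction.orbit ↥N α)) ≠ ⟨n • α, hα'O⟩ := by
        intro h
        exact hnα (congrArg Subtype.val h).symm
      have h3 : Nat.card ↥(MulAction.fixedPoints ↥(Subgroup.zpowers (⟨g0, hg0N⟩ : ↥N))
          ↥(MulAction.orbit ↥N α)) = 2 := by
        rw [h2, Nat.card_coe_set_eq, Set.ncard_pair hne']
      rw [h3] at h1
      exact h1
    have hidx' : Nat.card Ω = Nat.card ↥(MulAction.orbit ↥N α) * 2 := by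
      have h1 : (MulAction.stabilizer G α).index = Nat.card Ω :=
        MulAction.index_stabilizer_of_transitive G α
      have h2 : (MulAction.stabilizer ↥N α).index = (MulAction.orbit ↥N α).ncard :=
        MulAction.index_stabilizer ↥N α
      have h3 : MulAction.stabilizer ↥N α = (MulAction.stabilizer G α).subgroupOf N := by
        ext x
        rfl
      have hle : MulAction.stabilizer G α ≤ N :=
        fun x hx => hfix x ⟨α, MulAction.mem_stabilizer_iff.1 hx⟩
      have h4 := Subgroup.relIndex_mul_index hle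
      rw [Nat.card_coe_set_eq, ← h2, h3, ← h1, ← h4, hidx]
      rfl
    have h5 : Nat.card ↥(MulAction.orbit ↥N α) * 2 ≡ 2 * 2 [MOD q] := hc2.mul_right 2
    rw [← hidx'] at h5
    have h6 : 2 ≡ 2 * 2 [MOD q] := hc1.symm.trans h5
    have h7 : q ∣ 2 * 2 - 2 := (Nat.modEq_iff_dvd' (by norm_num)).1 h6
    have h8 : q ∣ 2 := by simpa using h7
    exact hq2 ((Nat.prime_dvd_prime_iff_eq hqp Nat.prime_two).1 h8)

end

/-- **[FROB]** -/
theorem pkgFrob : PkgFrob.{u, v} := by
  intro G _ _ Ω _ _ S N α β t htr hF hN hidx hfix htN htα hω hx hS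
  classical
  obtain ⟨ω0, hω0α, hω0β⟩ := hω
  obtain ⟨x, hxS, hx1, hxα⟩ := hx
  have hβα : β ≠ α := by
    intro h
    exact htN (hfix t ⟨α, by rw [htα, h]⟩)
  have hxN : x ∈ N := hfix x ⟨α, hxα⟩
  refine ⟨(MulAction.stabilizer G α).subgroupOf N, ?_, ?_, ?_⟩
  · intro h
    have h1 : (⟨x, hxN⟩ : ↥N) ∈ (MulAction.stabilizer G α).subgroupOf N := by
      rw [Subgroup.mem_subgroupOf]
      exact MulAction.mem_stabilizer_iff.2 hxα
    rw [h, Subgroup.mem_bot] at h1
    exact hx1 (congrArg Subtype.val h1)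
  · intro h
    have hNα : ∀ m ∈ N, m • α = α := by
      intro m hm
      have h1 : (⟨m, hm⟩ : ↥N) ∈ (MulAction.stabilizer G α).subgroupOf N :=
        h ▸ Subgroup.mem_top _
      rw [Subgroup.mem_subgroupOf] at h1
      exact MulAction.mem_stabilizer_iff.1 h1
    have hNall : ∀ m ∈ N, ∀ ω : Ω, m • ω = ω := by
      intro m hm ω
      obtain ⟨g, rfl⟩ := MulAction.exists_smul_eq G α ω
      have h1 : g⁻¹ * m * g ∈ N := by
        have h2 := hN.conj_mem m hm g⁻¹
        rwa [inv_inv] at h2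
      have h2 := hNα _ h1
      rw [mul_smul, mul_smul, inv_smul_eq_iff] at h2
      exact h2
    rcases hF x (Subgroup.mem_top _) hx1 α β ω0 hxα (hNall x hxN β) (hNall x hxN ω0)
      with h1 | h1 | h1
    · exact hβα h1.symm
    · exact hω0α h1.symm
    · exact hω0β h1.symm
  · intro g hg
    rw [Subgroup.eq_bot_iff_forall]
    intro y hy
    rw [Subgroup.mem_inf] at hy
    obtain ⟨hy1, hy2⟩ := hy
    rw [Subgroup.mem_pointwise_smul_iff_inv_smul_mem] at hy2
    have hy2' : g⁻¹ * y * g ∈ (MulAction.stabilizer G α).subgroupOf N := by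
      simpa [MulAut.smul_def] using hy2
    rw [Subgroup.mem_subgroupOf, MulAction.mem_stabilizer_iff] at hy1 hy2' hg
    by_contra hne
    have hyG : (y : G) ≠ 1 := fun h => hne (Subtype.ext h)
    have h3 : (y : G) • ((g : G) • α) = (g : G) • α := by
      have h4 := hy2'
      simp only [Subgroup.coe_mul, InvMemClass.coe_inv, mul_smul] at h4
      rwa [inv_smul_eq_iff] at h4
    exact frob_core S N α β t htr hF hidx hfix htN htα hS (y : G) (g : G) g.2 hyG hy1 h3 hg

end Cfsg.Agent.Lib.Helper47.Fix2
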